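import Mathlib
import Cfsg.Agent.Lib.ChevInv.Cert
import Cfsg.Agent.Lib.ChevAut.Par
import Cfsg.Agent.Lib.Twist.E6
import Cfsg.Agent.Lib.Twist.D4

/-!
# Involutions of the twisted groups in characteristic two
-/

set_option autoImplicit false

namespace CfsgLib.ChevInv

open Cfsg.Lie CfsgLib.Chev CfsgLib.RGD CfsgLib.Twist CfsgLib.Weyl CfsgLib.Stein CfsgLib.ChevAut

/-- certificate: classes of the Weyl group -/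
def ksTD4 : List (List ℕ × List ℕ × List ℕ) :=
  [([3, 1, 2, 0, 1, 3, 0, 1, 2, 0, 1, 0], [0, 5, 10, 11, 9, 15, 19, 16], [18, 13, 12]), ([3, 2, 0], [5, 10, 11],
  [18, 13, 12]), ([1], [9, 12, 11, 12, 13, 10, 13, 14, 9, 14, 19, 4, 19], [23]), ([], [], [])]

/-- certificate: sets of nodes -/
def jsTD4 : List (List ℕ × List ℕ × ℕ) :=
  [([], [], 0), ([0], [], 0), ([1], [1, 3, 2, 0], 1), ([0, 1, 0], [], 0), ([2], [], 0), ([0, 2], [], 0), ([1, 2,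
  1], [], 0), ([0, 1, 0, 2, 1, 0], [], 0), ([3], [], 0), ([0, 3], [], 0), ([1, 3, 1], [], 0), ([0, 1, 0, 3, 1, 0],
  [], 0), ([2, 3], [], 0), ([0, 2, 3], [3, 2, 0, 1], 2), ([1, 2, 1, 3, 1, 2], [], 0), ([0, 1, 0, 2, 1, 0, 3, 1, 0,
  2, 1, 3], [], 3)]

theorem weylTD4 : weylChk chevD4.rank chevD4.nroots tSD4 tTD4 (rtTab chevD4.nroots) rhoD4a (actT tOrbD4 0)
    (23 - ·) (ksTD4.map Prod.fst)
    [0, 1, 0, 2, 1, 0, 3, 1, 0, 2, 1, 3] jsTD4 = true := by decide +kernel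

theorem chkTD4 : ksTD4.all (kChk fastD4 tSD4 (okTw fastD4 rhoD4a)) = true := by decide +kernel

theorem rkTD4 : [[23], [18, 13, 12]].map (rk fastD4) = [10, 12] := by decide +kernel

theorem memTD4 {K : Type*} [Field K] [Fintype K] [CharP K 2] {q : ℕ} {φ : K →+* K} (hφ : ∀ t, φ t = t ^ q)
    (hφ2 : ∀ t, φ (φ (φ t)) = t) (l : List ℕ)
    (h : okTw fastD4 rhoD4a l = true) : wd chevD4 K l ∈ twistedD4 K q :=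
  eq_FixD4 hφ hφ2 ▸ mem_Fix_of_okTw rtOKD4 (twD4 φ) (fun r hr => by
    rw [twD4_σ_x φ hr, map_one, mul_one, cast_oddB, if_pos ((by decide : ∀ r < 24, oddB (epsD4a r) = true) r hr)]) matchD4.ofD_eq rfl l h

theorem classesTD4 {K : Type*} [Field K] [Fintype K] [CharP K 2] {q : ℕ} {φ : K →+* K} (hφ : ∀ t, φ t = t ^ q)
    (hφ2 : ∀ t, φ (φ (φ t)) = t) :
    (∀ y ∈ [[23], [18, 13, 12]], wd chevD4 K y ∈ twistedD4 K q ∧ orderOf (wd chevD4 K y) = 2) ∧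
    ∀ t ∈ twistedD4 K q, orderOf t = 2 → ∃ g ∈ twistedD4 K q, ∃ y ∈ [[23], [18, 13, 12]],
      g * t * g⁻¹ = wd chevD4 K y :=
  exists_conj_rep rtOKD4 tablesOKD4 (isTwD4 hφ hφ2)
    (fun r => (by decide +kernel : ∀ r < 24, actT tRhoD4 0 r = rhoD4a r) r r.2) (fun _ _ => Fin.ext_iff)
    matchD4.ofD_eq rfl (memTD4 hφ hφ2) weylTD4 chkTD4 (by simp [ksTD4]; tauto)
    (by rw [rkTD4]; decide)

/-- certificate: classes of the Weyl group -/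
def ksTE6 : List (List ℕ × List ℕ × List ℕ) :=
  [([0, 2, 3, 4, 5, 1, 3, 4, 2, 3, 0, 2, 1, 3, 4, 5, 1, 3, 4, 2, 3, 0, 2, 1, 3, 4, 2, 3, 0, 2, 1, 3, 0, 2, 1, 0],
  [0, 11, 27, 32, 47, 20, 8, 25, 22, 10, 56, 36, 48, 50, 38, 33, 38, 40, 31, 40, 43, 28, 43, 51, 20, 51, 59, 12,
  59], [56, 36, 46]), ([0, 2, 3, 4, 5, 0, 2, 3, 4, 0, 2, 3, 0, 2, 0], [11, 27, 32, 33, 14, 56, 36, 37, 42, 40, 31,
  40, 43, 28, 43, 47, 24, 47], [56, 36, 46]), ([4, 3, 2, 1, 3, 4, 3, 2, 1, 3, 2, 1], [18, 25, 29, 34, 31, 28, 32,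
  47, 38, 33, 38, 41, 30, 41, 44, 27, 44, 57, 14, 57], [56, 36, 46]), ([5, 1, 0], [15, 25, 35], [56, 36, 46]), ([2,
  3, 4, 2, 3, 2], [27, 32, 29, 34], [43, 40, 44]), ([5, 0], [15, 35, 36, 35, 36, 38, 33, 38, 39, 32, 39, 43, 28,
  43, 56, 15, 56], [43, 40]), ([3], [32, 38, 33, 38, 47, 24, 47, 51, 20, 51, 61, 10, 61], [71]), ([], [], [])]

/-- certificate: sets of nodes -/
def jsTE6 : List (List ℕ × List ℕ × ℕ) :=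
  [([], [], 0), ([0], [], 0), ([1], [1, 3, 4, 5, 2, 3, 4, 0, 2, 3], 1), ([0, 1], [], 0), ([2], [], 0), ([0, 2, 0],
  [], 0), ([1, 2], [], 0), ([0, 1, 2, 0], [], 0), ([3], [1, 3, 4, 5, 2, 3, 4, 0, 2, 1], 1), ([0, 3], [], 0), ([1,
  3, 1], [], 0), ([0, 1, 3, 1], [], 0), ([2, 3, 2], [], 0), ([0, 2, 0, 3, 2, 0], [], 0), ([1, 2, 3, 1, 2, 3], [],
  0), ([0, 1, 2, 0, 3, 1, 2, 0, 3, 2], [], 0), ([4], [], 0), ([0, 4], [], 0), ([1, 4], [], 0), ([0, 1, 4], [], 0),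
  ([2, 4], [0, 2, 3, 4, 5, 4, 3, 2, 1, 3, 0], 2), ([0, 2, 0, 4], [], 0), ([1, 2, 4], [4, 3, 2, 1, 3, 4, 5, 1, 3, 4,
  0, 2, 1, 3, 0], 3), ([0, 1, 2, 0, 4], [], 0), ([3, 4, 3], [], 0), ([0, 3, 4, 3], [], 0), ([1, 3, 1, 4, 3, 1], [],
  0), ([0, 1, 3, 1, 4, 3, 1], [], 0), ([2, 3, 2, 4, 3, 2], [0, 2, 1, 3, 4, 5, 4, 2, 3, 2, 1, 0], 4), ([0, 2, 0, 3,
  2, 0, 4, 3, 2, 0], [], 0), ([1, 2, 3, 1, 2, 3, 4, 3, 1, 2, 3, 4], [4, 3, 2, 1, 3, 4, 5, 1, 3, 2, 0], 5), ([0, 1,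
  2, 0, 3, 1, 2, 0, 3, 2, 4, 3, 1, 2, 0, 3, 2, 4, 3, 1], [], 0), ([5], [], 0), ([0, 5], [5, 4, 3, 0, 2, 1, 3, 4, 1,
  3, 2], 2), ([1, 5], [], 0), ([0, 1, 5], [2, 3, 4, 5, 2, 3, 0, 2, 1, 3, 4, 0, 2, 3, 2], 3), ([2, 5], [], 0), ([0,
  2, 0, 5], [], 0), ([1, 2, 5], [], 0), ([0, 1, 2, 0, 5], [], 0), ([3, 5], [], 0), ([0, 3, 5], [2, 3, 4, 5, 2, 3,
  0, 2, 1, 3, 4, 3, 0, 2, 1], 3), ([1, 3, 1, 5], [], 0), ([0, 1, 3, 1, 5], [], 0), ([2, 3, 2, 5], [], 0), ([0, 2,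
  0, 3, 2, 0, 5], [], 0), ([1, 2, 3, 1, 2, 3, 5], [], 0), ([0, 1, 2, 0, 3, 1, 2, 0, 3, 2, 5], [], 0), ([4, 5, 4],
  [], 0), ([0, 4, 5, 4], [], 0), ([1, 4, 5, 4], [], 0), ([0, 1, 4, 5, 4], [], 0), ([2, 4, 5, 4], [], 0), ([0, 2, 0,
  4, 5, 4], [], 0), ([1, 2, 4, 5, 4], [], 0), ([0, 1, 2, 0, 4, 5, 4], [], 0), ([3, 4, 3, 5, 4, 3], [], 0), ([0, 3,
  4, 3, 5, 4, 3], [], 0), ([1, 3, 1, 4, 3, 1, 5, 4, 3, 1], [], 0), ([0, 1, 3, 1, 4, 3, 1, 5, 4, 3, 1], [], 0), ([2,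
  3, 2, 4, 3, 2, 5, 4, 3, 2], [], 0), ([0, 2, 0, 3, 2, 0, 4, 3, 2, 0, 5, 4, 3, 2, 0], [4, 5, 2, 1, 3, 4, 0, 2, 3,
  1], 6), ([1, 2, 3, 1, 2, 3, 4, 3, 1, 2, 3, 4, 5, 4, 3, 1, 2, 3, 4, 5], [], 0), ([0, 1, 2, 0, 3, 1, 2, 0, 3, 2, 4,
  3, 1, 2, 0, 3, 2, 4, 3, 1, 5, 4, 3, 1, 2, 0, 3, 2, 4, 3, 1, 5, 4, 3, 2, 0], [], 7)]

theorem weylTE6 : weylChk chevE6.rank chevE6.nroots tSE6 tTE6 (rtTab chevE6.nroots) rhoE6 (actT tOrbE6 0)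
    (actT tSwE6 4) (ksTE6.map Prod.fst)
    [0, 1, 2, 0, 3, 1, 2, 0, 3, 2, 4, 3, 1, 2, 0, 3, 2, 4, 3, 1, 5, 4, 3, 1, 2, 0, 3, 2, 4, 3, 1, 5, 4, 3, 2, 0] jsTE6 = true := by decide +kernel

theorem chkTE6 : ksTE6.all (kChk fastE6 tSE6 (okTw fastE6 rhoE6)) = true := by decide +kernel

theorem rkTE6 : [[71], [43, 40], [43, 40, 44], [56, 36, 46]].map (rk fastE6) = [22, 32, 32, 38] := by decide +kernel

theorem memTE6 {K : Type*} [Field K] [Fintype K] [CharP K 2] {q : ℕ} {φ : K →+* K} (hφ : ∀ t, φ t = t ^ q)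
    (hφ2 : ∀ t, φ (φ t) = t) (l : List ℕ)
    (h : okTw fastE6 rhoE6 l = true) : wd chevE6 K l ∈ twistedE6 K q :=
  eq_FixE6 hφ hφ2 ▸ mem_Fix_of_okTw rtOKE6 (twE6 φ) (fun r hr => by
    rw [twE6_σ_x φ hr, map_one, mul_one, cast_oddB, if_pos ((by decide : ∀ r < 72, oddB (epsE6 r) = true) r hr)]) matchE6.ofD_eq rfl l h

theorem classesTE6 {K : Type*} [Field K] [Fintype K] [CharP K 2] {q : ℕ} {φ : K →+* K} (hφ : ∀ t, φ t = t ^ q)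
    (hφ2 : ∀ t, φ (φ t) = t) :
    (∀ y ∈ [[71], [43, 40], [43, 40, 44], [56, 36, 46]], wd chevE6 K y ∈ twistedE6 K q ∧ orderOf (wd chevE6 K y) = 2) ∧
    ∀ t ∈ twistedE6 K q, orderOf t = 2 → ∃ g ∈ twistedE6 K q, ∃ y ∈ [[71], [43, 40], [43, 40, 44], [56, 36, 46]],
      g * t * g⁻¹ = wd chevE6 K y :=
  exists_conj_rep rtOKE6 tablesOKE6 (isTwE6 hφ hφ2)
    (fun r => (by decide +kernel : ∀ r < 72, actT tRhoE6 0 r = rhoE6 r) r r.2) (fun _ _ => Fin.ext_iff)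
    matchE6.ofD_eq rfl (memTE6 hφ hφ2) weylTE6 chkTE6 (by simp [ksTE6]; tauto)
    (by rw [rkTE6]; decide)

/-- certificate: classes of the Weyl group -/
def ksTF4 : List (List ℕ × List ℕ × List ℕ) :=
  [([3, 2, 1, 2, 0, 1, 2, 3, 2, 1, 2, 0, 1, 2, 3, 2, 1, 2, 0, 1, 2, 0, 1, 0], [24, 33, 28, 25, 27, 11, 21, 13, 8,
  2, 24, 23, 24, 26, 21, 26, 31, 16, 31, 33, 14, 33], [37, 32]), ([2, 1, 2, 1], [20, 22, 19, 26, 21, 26, 42, 5,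
  42], [44, 47]), ([3, 0], [14, 23, 25, 22, 25, 30, 17, 30], [37, 32]), ([], [], [])]

/-- certificate: sets of nodes -/
def jsTF4 : List (List ℕ × List ℕ × ℕ) :=
  [([], [], 0), ([0], [], 0), ([1], [], 0), ([0, 1, 0], [], 0), ([2], [], 0), ([0, 2], [], 0), ([1, 2, 1, 2], [3,
  2, 0, 1, 2, 3, 1, 0], 1), ([0, 1, 0, 2, 1, 0, 2, 1, 2], [], 0), ([3], [], 0), ([0, 3], [2, 1, 2, 3, 1, 2, 0, 1,
  2, 1], 2), ([1, 3], [], 0), ([0, 1, 0, 3], [], 0), ([2, 3, 2], [], 0), ([0, 2, 3, 2], [], 0), ([1, 2, 1, 2, 3, 2,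
  1, 2, 3], [], 0), ([0, 1, 0, 2, 1, 0, 2, 1, 2, 3, 2, 1, 0, 2, 1, 2, 3, 2, 1, 0, 2, 1, 2, 3], [], 3)]

theorem weylTF4 : weylChk chevF4.rank chevF4.nroots tSF4 tTF4 (rtTab chevF4.nroots) rhoF4 (actT tOrbF4 0)
    (47 - ·) (ksTF4.map Prod.fst)
    [0, 1, 0, 2, 1, 0, 2, 1, 2, 3, 2, 1, 0, 2, 1, 2, 3, 2, 1, 0, 2, 1, 2, 3] jsTF4 = true := by decide +kernel

theorem chkTF4 : ksTF4.all (kChk fastF4 tSF4 (okTw fastF4 rhoF4)) = true := by decide +kernel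

theorem rkTF4 : [[44, 47], [37, 32]].map (rk fastF4) = [21, 24] := by decide +kernel

theorem memTF4 {K : Type*} [Field K] [Fintype K] [CharP K 2] {e : ℕ} {θ : K →+* K} (he : ∀ t, θ t = t ^ e)
    (hθ : ∀ t, θ (θ t) ^ 2 = t) (l : List ℕ)
    (h : okTw fastF4 rhoF4 l = true) : wd chevF4 K l ∈ twistedF4 K e :=
  eq_FixF4 he hθ ▸ mem_Fix_of_okTw rtOKF4 (twF4 θ hθ) (fun r hr => by rw [twF4_σ_x θ hθ hr, map_one, one_pow]) matchF4.ofD_eq rfl l h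

theorem classesTF4 {K : Type*} [Field K] [Fintype K] [CharP K 2] {e : ℕ} {θ : K →+* K} (he : ∀ t, θ t = t ^ e)
    (hθ : ∀ t, θ (θ t) ^ 2 = t) :
    (∀ y ∈ [[44, 47], [37, 32]], wd chevF4 K y ∈ twistedF4 K e ∧ orderOf (wd chevF4 K y) = 2) ∧
    ∀ t ∈ twistedF4 K e, orderOf t = 2 → ∃ g ∈ twistedF4 K e, ∃ y ∈ [[44, 47], [37, 32]],
      g * t * g⁻¹ = wd chevF4 K y :=
  exists_conj_rep rtOKF4 tablesOKF4 (isTwF4 he hθ)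
    (fun r => (by decide +kernel : ∀ r < 48, actT tRhoF4 0 r = rhoF4 r) r r.2) (fun _ _ => Fin.ext_iff)
    matchF4.ofD_eq rfl (memTF4 he hθ) weylTF4 chkTF4 (by simp [ksTF4]; tauto)
    (by rw [rkTF4]; decide)

end CfsgLib.ChevInv
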