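import Mathlib
import Cfsg.Agent.Lib.ChevInv.Cert
import Cfsg.Agent.Lib.ChevAut.Par
import Cfsg.Agent.Lib.Chev.Cert

/-!
# Involutions of `G₂`, `F₄`, `E₆`, `E₇` in characteristic two
-/

set_option autoImplicit false

namespace CfsgLib.ChevInv

open Cfsg.Lie CfsgLib.Chev CfsgLib.RGD CfsgLib.Twist CfsgLib.Weyl CfsgLib.Stein CfsgLib.ChevAut

/-- certificate: classes of the Weyl group -/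
def ksG2 : List (List ℕ × List ℕ × List ℕ) :=
  [([1, 0, 1, 0, 1, 0], [0, 4, 5, 8, 6, 5, 6, 7, 4, 7], [9]), ([1], [5, 6, 5, 6, 8, 3, 8], [11]), ([0], [4, 6, 5,
  6, 7, 4, 7], [9]), ([], [], [])]

/-- certificate: sets of nodes -/
def jsG2 : List (List ℕ × List ℕ × ℕ) :=
  [([], [], 0), ([0], [0, 1], 1), ([1], [1, 0], 2), ([0, 1, 0, 1, 0, 1], [], 3)]

theorem weylG2 : weylChk chevG2.rank chevG2.nroots tSG2 tTG2 (rtTab chevG2.nroots) id id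
    (11 - ·) (ksG2.map Prod.fst)
    [0, 1, 0, 1, 0, 1] jsG2 = true := by decide +kernel

theorem chkG2 : ksG2.all (kChk fastG2 tSG2 (fun _ => true)) = true := by decide +kernel

theorem rkG2 : [[11], [9]].map (rk fastG2) = [6, 6] := by decide +kernel

theorem classesG2 (F : Type*) [Field F] [Fintype F] [CharP F 2] :
    (∀ y ∈ [[11], [9]], wd chevG2 F y ∈ chevG2.group F ∧ orderOf (wd chevG2 F y) = 2) ∧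
    ∀ t ∈ chevG2.group F, orderOf t = 2 → ∃ g ∈ chevG2.group F, ∃ y ∈ [[11], [9]],
      g * t * g⁻¹ = wd chevG2 F y :=
  exists_conj_rep rtOKG2 tablesOKG2 (isTw_group rtOKG2) (fun _ => rfl) (fun _ _ => Fin.ext_iff)
    matchG2.ofD_eq rfl (fun l _ => wd_mem_group l) weylG2 chkG2 (by simp [ksG2]; tauto)
    (by rw [rkG2]; decide)

/-- certificate: classes of the Weyl group -/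
def ksF4 : List (List ℕ × List ℕ × List ℕ) :=
  [([3, 2, 1, 2, 0, 1, 2, 3, 2, 1, 2, 0, 1, 2, 3, 2, 1, 2, 0, 1, 2, 0, 1, 0], [0, 6, 17, 22, 26, 16, 5, 23, 11, 29,
  33, 24, 23, 24, 25, 22, 25, 27, 20, 27], [39, 45]), ([3, 2, 1, 2, 3, 2, 1, 2, 1], [15, 20, 23, 19, 22, 26, 27,
  20, 27, 32, 15, 32, 40, 7, 40], [39, 45]), ([2, 1, 2, 0, 1, 2, 0, 1, 0], [6, 17, 22, 13, 27, 33, 24, 23, 24, 25,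
  22, 25, 28, 19, 28, 37, 10, 37], [39, 45]), ([3, 0], [14, 23, 32, 15, 32, 37, 10, 37], [39, 45]), ([2, 1, 2, 1],
  [17, 22, 20, 26, 21, 26, 42, 5, 42], [47, 44]), ([3], [23, 24, 23, 24, 31, 16, 31, 36, 11, 36], [47]), ([1], [20,
  24, 23, 24, 26, 21, 26, 41, 6, 41], [44]), ([], [], [])]

/-- certificate: sets of nodes -/
def jsF4 : List (List ℕ × List ℕ × ℕ) :=
  [([], [], 0), ([0], [0, 1, 2, 3, 1, 2, 1], 1), ([1], [0, 1, 2, 3, 1, 2, 0], 1), ([0, 1, 0], [], 0), ([2], [3, 2,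
  1, 2, 3, 0, 1], 2), ([0, 2], [2, 1, 2, 0, 1, 2, 3, 2, 0, 1], 3), ([1, 2, 1, 2], [3, 2, 0, 1, 2, 3, 1, 0], 4),
  ([0, 1, 0, 2, 1, 0, 2, 1, 2], [2, 1, 2, 0, 1, 2, 3], 5), ([3], [3, 2, 1, 2, 0, 1, 2], 2), ([0, 3], [2, 1, 2, 3,
  1, 2, 0, 1, 2, 1], 3), ([1, 3], [2, 1, 2, 3, 1, 2, 0, 1, 2, 0], 3), ([0, 1, 0, 3], [], 0), ([2, 3, 2], [], 0),
  ([0, 2, 3, 2], [], 0), ([1, 2, 1, 2, 3, 2, 1, 2, 3], [2, 3, 0, 1, 2, 1, 0], 6), ([0, 1, 0, 2, 1, 0, 2, 1, 2, 3,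
  2, 1, 0, 2, 1, 2, 3, 2, 1, 0, 2, 1, 2, 3], [], 7)]

theorem weylF4 : weylChk chevF4.rank chevF4.nroots tSF4 tTF4 (rtTab chevF4.nroots) id id
    (47 - ·) (ksF4.map Prod.fst)
    [0, 1, 0, 2, 1, 0, 2, 1, 2, 3, 2, 1, 0, 2, 1, 2, 3, 2, 1, 0, 2, 1, 2, 3] jsF4 = true := by decide +kernel

theorem chkF4 : ksF4.all (kChk fastF4 tSF4 (fun _ => true)) = true := by decide +kernel

theorem rkF4 : [[47], [44], [47, 44], [39, 45]].map (rk fastF4) = [16, 16, 21, 24] := by decide +kernel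

theorem classesF4 (F : Type*) [Field F] [Fintype F] [CharP F 2] :
    (∀ y ∈ [[47], [44], [47, 44], [39, 45]], wd chevF4 F y ∈ chevF4.group F ∧ orderOf (wd chevF4 F y) = 2) ∧
    ∀ t ∈ chevF4.group F, orderOf t = 2 → ∃ g ∈ chevF4.group F, ∃ y ∈ [[47], [44], [47, 44], [39, 45]],
      g * t * g⁻¹ = wd chevF4 F y :=
  exists_conj_rep rtOKF4 tablesOKF4 (isTw_group rtOKF4) (fun _ => rfl) (fun _ _ => Fin.ext_iff)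
    matchF4.ofD_eq rfl (fun l _ => wd_mem_group l) weylF4 chkF4 (by simp [ksF4]; tauto)
    (by rw [rkF4]; decide)

/-- certificate: classes of the Weyl group -/
def ksE6 : List (List ℕ × List ℕ × List ℕ) :=
  [([4, 3, 2, 1, 3, 4, 3, 2, 1, 3, 2, 1], [18, 25, 29, 34, 40, 28, 24, 32, 36, 35, 36, 37, 34, 37, 39, 32, 39, 60,
  11, 60, 62, 9, 62], [55, 65, 67]), ([4, 2, 1], [25, 29, 34, 36, 35, 36, 37, 34, 37, 41, 30, 41, 44, 27, 44, 64,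
  7, 64], [55, 65, 67]), ([2, 1], [25, 29, 38, 33, 38, 41, 30, 41, 42, 29, 42, 58, 13, 58, 62, 9, 62], [68, 66]),
  ([5], [35, 40, 31, 40, 47, 24, 47, 51, 20, 51, 61, 10, 61], [71]), ([], [], [])]

/-- certificate: sets of nodes -/
def jsE6 : List (List ℕ × List ℕ × ℕ) :=
  [([], [5, 0, 2, 3, 4, 3, 2, 1, 3, 0, 2, 0], 0), ([0], [], 0), ([1], [3, 4, 5, 0, 2, 1, 3, 4, 3, 0, 2, 1, 3, 0, 2,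
  0], 1), ([0, 1], [], 0), ([2], [], 0), ([0, 2, 0], [], 0), ([1, 2], [], 0), ([0, 1, 2, 0], [], 0), ([3], [3, 4,
  5, 0, 2, 1, 3, 4, 3, 2, 1, 3, 0, 2, 1, 0], 1), ([0, 3], [], 0), ([1, 3, 1], [], 0), ([0, 1, 3, 1], [], 0), ([2,
  3, 2], [], 0), ([0, 2, 0, 3, 2, 0], [], 0), ([1, 2, 3, 1, 2, 3], [], 0), ([0, 1, 2, 0, 3, 1, 2, 0, 3, 2], [], 0),
  ([4], [], 0), ([0, 4], [], 0), ([1, 4], [], 0), ([0, 1, 4], [], 0), ([2, 4], [], 0), ([0, 2, 0, 4], [], 0), ([1,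
  2, 4], [], 0), ([0, 1, 2, 0, 4], [], 0), ([3, 4, 3], [], 0), ([0, 3, 4, 3], [], 0), ([1, 3, 1, 4, 3, 1], [], 0),
  ([0, 1, 3, 1, 4, 3, 1], [], 0), ([2, 3, 2, 4, 3, 2], [3, 4, 5, 0, 2, 3, 4, 0, 2, 1, 3, 2, 1, 0], 2), ([0, 2, 0,
  3, 2, 0, 4, 3, 2, 0], [], 0), ([1, 2, 3, 1, 2, 3, 4, 3, 1, 2, 3, 4], [], 0), ([0, 1, 2, 0, 3, 1, 2, 0, 3, 2, 4,
  3, 1, 2, 0, 3, 2, 4, 3, 1], [], 0), ([5], [], 0), ([0, 5], [], 0), ([1, 5], [], 0), ([0, 1, 5], [], 0), ([2, 5],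
  [], 0), ([0, 2, 0, 5], [], 0), ([1, 2, 5], [], 0), ([0, 1, 2, 0, 5], [], 0), ([3, 5], [], 0), ([0, 3, 5], [], 0),
  ([1, 3, 1, 5], [], 0), ([0, 1, 3, 1, 5], [], 0), ([2, 3, 2, 5], [], 0), ([0, 2, 0, 3, 2, 0, 5], [], 0), ([1, 2,
  3, 1, 2, 3, 5], [], 0), ([0, 1, 2, 0, 3, 1, 2, 0, 3, 2, 5], [], 0), ([4, 5, 4], [], 0), ([0, 4, 5, 4], [], 0),
  ([1, 4, 5, 4], [], 0), ([0, 1, 4, 5, 4], [], 0), ([2, 4, 5, 4], [], 0), ([0, 2, 0, 4, 5, 4], [], 0), ([1, 2, 4,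
  5, 4], [], 0), ([0, 1, 2, 0, 4, 5, 4], [], 0), ([3, 4, 3, 5, 4, 3], [], 0), ([0, 3, 4, 3, 5, 4, 3], [], 0), ([1,
  3, 1, 4, 3, 1, 5, 4, 3, 1], [], 0), ([0, 1, 3, 1, 4, 3, 1, 5, 4, 3, 1], [], 0), ([2, 3, 2, 4, 3, 2, 5, 4, 3, 2],
  [], 0), ([0, 2, 0, 3, 2, 0, 4, 3, 2, 0, 5, 4, 3, 2, 0], [4, 3, 2, 1, 3, 4, 0, 2, 3, 1], 3), ([1, 2, 3, 1, 2, 3,
  4, 3, 1, 2, 3, 4, 5, 4, 3, 1, 2, 3, 4, 5], [], 0), ([0, 1, 2, 0, 3, 1, 2, 0, 3, 2, 4, 3, 1, 2, 0, 3, 2, 4, 3, 1,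
  5, 4, 3, 1, 2, 0, 3, 2, 4, 3, 1, 5, 4, 3, 2, 0], [], 4)]

theorem weylE6 : weylChk chevE6.rank chevE6.nroots tSE6 tTE6 (rtTab chevE6.nroots) id id
    (actT tSwE6 4) (ksE6.map Prod.fst)
    [0, 1, 2, 0, 3, 1, 2, 0, 3, 2, 4, 3, 1, 2, 0, 3, 2, 4, 3, 1, 5, 4, 3, 1, 2, 0, 3, 2, 4, 3, 1, 5, 4, 3, 2, 0] jsE6 = true := by decide +kernel

theorem chkE6 : ksE6.all (kChk fastE6 tSE6 (fun _ => true)) = true := by decide +kernel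

theorem rkE6 : [[71], [68, 66], [55, 65, 67]].map (rk fastE6) = [22, 32, 38] := by decide +kernel

theorem classesE6 (F : Type*) [Field F] [Fintype F] [CharP F 2] :
    (∀ y ∈ [[71], [68, 66], [55, 65, 67]], wd chevE6 F y ∈ chevE6.group F ∧ orderOf (wd chevE6 F y) = 2) ∧
    ∀ t ∈ chevE6.group F, orderOf t = 2 → ∃ g ∈ chevE6.group F, ∃ y ∈ [[71], [68, 66], [55, 65, 67]],
      g * t * g⁻¹ = wd chevE6 F y :=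
  exists_conj_rep rtOKE6 tablesOKE6 (isTw_group rtOKE6) (fun _ => rfl) (fun _ _ => Fin.ext_iff)
    matchE6.ofD_eq rfl (fun l _ => wd_mem_group l) weylE6 chkE6 (by simp [ksE6]; tauto)
    (by rw [rkE6]; decide)

/-- certificate: classes of the Weyl group -/
def ksE7 : List (List ℕ × List ℕ × List ℕ) :=
  [([6, 5, 4, 3, 2, 1, 3, 4, 5, 6, 0, 2, 3, 4, 5, 1, 3, 4, 2, 3, 0, 2, 1, 3, 4, 5, 6, 0, 2, 3, 4, 5, 1, 3, 4, 2, 3,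
  0, 2, 1, 3, 4, 5, 1, 3, 4, 2, 3, 0, 2, 1, 3, 4, 2, 3, 0, 2, 1, 3, 0, 2, 1, 0], [0, 33, 38, 47, 52, 59, 62, 94,
  22, 17, 32, 96, 26, 8, 30, 98, 24, 10, 28, 65, 60, 65, 70, 55, 70, 76, 49, 76, 88, 37, 88, 105, 20, 105, 106, 19,
  106], [78, 73, 66, 63]), ([6, 5, 4, 3, 2, 1, 3, 4, 5, 6, 5, 4, 3, 2, 1, 3, 4, 5, 4, 3, 2, 1, 3, 4, 3, 2, 1, 3, 2,
  1], [33, 38, 47, 52, 59, 62, 65, 58, 37, 61, 70, 51, 46, 56, 67, 58, 67, 88, 37, 88, 98, 27, 98, 101, 24, 101],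
  [78, 73, 66, 63]), ([6, 4, 3, 2, 1, 3, 4, 3, 2, 1, 3, 2, 1], [38, 47, 52, 59, 62, 70, 51, 46, 56, 70, 55, 70, 74,
  51, 74, 94, 31, 94, 103, 22, 103], [78, 73, 66, 63]), ([6, 4, 2, 1], [47, 52, 59, 62], [78, 73, 66, 63]), ([6, 4,
  1], [47, 59, 62], [78, 66, 63]), ([4, 3, 2, 1, 3, 4, 3, 2, 1, 3, 2, 1], [38, 47, 52, 59, 70, 51, 46, 56, 70, 55,
  70, 74, 51, 74, 94, 31, 94, 103, 22, 103], [78, 73, 66]), ([4, 2, 1], [47, 52, 59], [78, 73, 66]), ([2, 1], [47,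
  52], [78, 73]), ([6], [62], [63]), ([], [], [])]

/-- certificate: sets of nodes -/
def jsE7 : List (List ℕ × List ℕ × ℕ) :=
  [([], [], 0), ([0], [0, 2, 3, 4, 5, 6, 1, 3, 4, 5, 2, 3, 4, 1, 3, 2], 1), ([1], [0, 2, 3, 4, 5, 6, 1, 3, 4, 5, 2,
  3, 4, 0, 2, 3], 1), ([0, 1], [5, 4, 3, 0, 2, 1, 3, 4, 5, 6, 0, 2, 1, 3, 4, 5, 2, 1, 3, 4, 2, 1, 3, 2], 2), ([2],
  [0, 2, 3, 4, 5, 6, 1, 3, 4, 5, 2, 3, 4, 1, 3, 0], 1), ([0, 2, 0], [], 0), ([1, 2], [5, 4, 3, 0, 2, 1, 3, 4, 5, 6,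
  0, 2, 1, 3, 4, 5, 2, 1, 3, 4, 2, 1, 3, 0], 2), ([0, 1, 2, 0], [], 0), ([3], [0, 2, 3, 4, 5, 6, 1, 3, 4, 5, 2, 3,
  4, 0, 2, 1], 1), ([0, 3], [5, 4, 3, 0, 2, 1, 3, 4, 5, 6, 0, 2, 1, 3, 4, 5, 2, 1, 3, 4, 3, 0, 2, 1], 2), ([1, 3,
  1], [], 0), ([0, 1, 3, 1], [], 0), ([2, 3, 2], [], 0), ([0, 2, 0, 3, 2, 0], [], 0), ([1, 2, 3, 1, 2, 3], [], 0),
  ([0, 1, 2, 0, 3, 1, 2, 0, 3, 2], [], 0), ([4], [0, 2, 3, 4, 5, 6, 1, 3, 4, 5, 2, 3, 0, 2, 1, 3], 1), ([0, 4], [5,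
  4, 3, 0, 2, 1, 3, 4, 5, 6, 0, 2, 1, 3, 4, 5, 4, 2, 3, 0, 2, 1, 3, 2], 2), ([1, 4], [5, 4, 3, 0, 2, 1, 3, 4, 5, 6,
  5, 4, 3, 2, 1, 3, 4, 5, 2, 3, 0, 2, 1, 3], 2), ([0, 1, 4], [5, 3, 4, 2, 3, 0, 2, 1, 3, 4, 5, 6, 4, 3, 0, 2, 1, 3,
  4, 5, 4, 2, 3, 0, 2, 1, 3, 2], 3), ([2, 4], [5, 4, 3, 0, 2, 1, 3, 4, 5, 6, 0, 2, 1, 3, 4, 5, 4, 2, 3, 0, 2, 1, 3,
  0], 2), ([0, 2, 0, 4], [], 0), ([1, 2, 4], [5, 3, 4, 2, 3, 0, 2, 1, 3, 4, 5, 6, 4, 3, 0, 2, 1, 3, 4, 5, 4, 2, 3,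
  0, 2, 1, 3, 0], 3), ([0, 1, 2, 0, 4], [], 0), ([3, 4, 3], [], 0), ([0, 3, 4, 3], [], 0), ([1, 3, 1, 4, 3, 1], [],
  0), ([0, 1, 3, 1, 4, 3, 1], [], 0), ([2, 3, 2, 4, 3, 2], [], 0), ([0, 2, 0, 3, 2, 0, 4, 3, 2, 0], [], 0), ([1, 2,
  3, 1, 2, 3, 4, 3, 1, 2, 3, 4], [5, 3, 4, 2, 3, 0, 2, 1, 3, 4, 5, 6, 2, 3, 0, 2, 1, 3, 4, 5, 1, 3, 2, 0], 4), ([0,
  1, 2, 0, 3, 1, 2, 0, 3, 2, 4, 3, 1, 2, 0, 3, 2, 4, 3, 1], [], 0), ([5], [0, 2, 3, 4, 5, 6, 1, 3, 4, 2, 3, 0, 2,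
  1, 3, 4], 1), ([0, 5], [5, 4, 3, 0, 2, 1, 3, 4, 5, 6, 5, 1, 3, 4, 2, 3, 0, 2, 1, 3, 4, 1, 3, 2], 2), ([1, 5], [5,
  4, 3, 0, 2, 1, 3, 4, 5, 6, 5, 1, 3, 4, 2, 3, 0, 2, 1, 3, 4, 0, 2, 3], 2), ([0, 1, 5], [5, 3, 4, 2, 3, 0, 2, 1, 3,
  4, 5, 6, 4, 5, 1, 3, 4, 2, 3, 0, 2, 1, 3, 4, 2, 1, 3, 2], 3), ([2, 5], [5, 4, 3, 0, 2, 1, 3, 4, 5, 6, 5, 1, 3, 4,
  2, 3, 0, 2, 1, 3, 4, 1, 3, 0], 2), ([0, 2, 0, 5], [], 0), ([1, 2, 5], [5, 3, 4, 2, 3, 0, 2, 1, 3, 4, 5, 6, 4, 5,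
  1, 3, 4, 2, 3, 0, 2, 1, 3, 4, 2, 1, 3, 0], 3), ([0, 1, 2, 0, 5], [], 0), ([3, 5], [5, 4, 3, 0, 2, 1, 3, 4, 5, 6,
  5, 1, 3, 4, 2, 3, 0, 2, 1, 3, 4, 0, 2, 1], 2), ([0, 3, 5], [5, 3, 4, 2, 3, 0, 2, 1, 3, 4, 5, 6, 4, 5, 1, 3, 4, 2,
  3, 0, 2, 1, 3, 4, 3, 0, 2, 1], 3), ([1, 3, 1, 5], [], 0), ([0, 1, 3, 1, 5], [], 0), ([2, 3, 2, 5], [], 0), ([0,
  2, 0, 3, 2, 0, 5], [], 0), ([1, 2, 3, 1, 2, 3, 5], [], 0), ([0, 1, 2, 0, 3, 1, 2, 0, 3, 2, 5], [], 0), ([4, 5,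
  4], [], 0), ([0, 4, 5, 4], [], 0), ([1, 4, 5, 4], [], 0), ([0, 1, 4, 5, 4], [], 0), ([2, 4, 5, 4], [], 0), ([0,
  2, 0, 4, 5, 4], [], 0), ([1, 2, 4, 5, 4], [], 0), ([0, 1, 2, 0, 4, 5, 4], [], 0), ([3, 4, 3, 5, 4, 3], [], 0),
  ([0, 3, 4, 3, 5, 4, 3], [], 0), ([1, 3, 1, 4, 3, 1, 5, 4, 3, 1], [], 0), ([0, 1, 3, 1, 4, 3, 1, 5, 4, 3, 1], [],
  0), ([2, 3, 2, 4, 3, 2, 5, 4, 3, 2], [], 0), ([0, 2, 0, 3, 2, 0, 4, 3, 2, 0, 5, 4, 3, 2, 0], [], 0), ([1, 2, 3,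
  1, 2, 3, 4, 3, 1, 2, 3, 4, 5, 4, 3, 1, 2, 3, 4, 5], [], 0), ([0, 1, 2, 0, 3, 1, 2, 0, 3, 2, 4, 3, 1, 2, 0, 3, 2,
  4, 3, 1, 5, 4, 3, 1, 2, 0, 3, 2, 4, 3, 1, 5, 4, 3, 2, 0], [], 0), ([6], [0, 2, 3, 4, 5, 1, 3, 4, 2, 3, 0, 2, 1,
  3, 4, 5], 1), ([0, 6], [5, 6, 0, 2, 3, 4, 5, 1, 3, 4, 2, 3, 0, 2, 1, 3, 4, 5, 2, 3, 4, 1, 3, 2], 2), ([1, 6], [5,
  6, 0, 2, 3, 4, 5, 1, 3, 4, 2, 3, 0, 2, 1, 3, 4, 5, 2, 3, 4, 0, 2, 3], 2), ([0, 1, 6], [3, 4, 5, 6, 0, 2, 3, 4, 5,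
  1, 3, 4, 2, 3, 0, 2, 1, 3, 4, 5, 2, 1, 3, 4, 2, 1, 3, 2], 3), ([2, 6], [5, 6, 0, 2, 3, 4, 5, 1, 3, 4, 2, 3, 0, 2,
  1, 3, 4, 5, 2, 3, 4, 1, 3, 0], 2), ([0, 2, 0, 6], [], 0), ([1, 2, 6], [3, 4, 5, 6, 0, 2, 3, 4, 5, 1, 3, 4, 2, 3,
  0, 2, 1, 3, 4, 5, 2, 1, 3, 4, 2, 1, 3, 0], 3), ([0, 1, 2, 0, 6], [], 0), ([3, 6], [5, 6, 0, 2, 3, 4, 5, 1, 3, 4,
  2, 3, 0, 2, 1, 3, 4, 5, 2, 3, 4, 0, 2, 1], 2), ([0, 3, 6], [3, 4, 5, 6, 0, 2, 3, 4, 5, 1, 3, 4, 2, 3, 0, 2, 1, 3,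
  4, 5, 2, 1, 3, 4, 3, 0, 2, 1], 3), ([1, 3, 1, 6], [], 0), ([0, 1, 3, 1, 6], [], 0), ([2, 3, 2, 6], [], 0), ([0,
  2, 0, 3, 2, 0, 6], [], 0), ([1, 2, 3, 1, 2, 3, 6], [], 0), ([0, 1, 2, 0, 3, 1, 2, 0, 3, 2, 6], [], 0), ([4, 6],
  [5, 6, 0, 2, 3, 4, 5, 1, 3, 4, 2, 3, 0, 2, 1, 3, 4, 5, 2, 3, 0, 2, 1, 3], 2), ([0, 4, 6], [3, 4, 5, 6, 0, 2, 3,
  4, 5, 1, 3, 4, 2, 3, 0, 2, 1, 3, 4, 5, 4, 2, 3, 0, 2, 1, 3, 2], 3), ([1, 4, 6], [5, 6, 0, 2, 3, 4, 5, 1, 3, 4, 2,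
  3, 0, 2, 1, 3, 4, 5, 2, 3, 0, 2, 1, 3], 5), ([0, 1, 4, 6], [3, 4, 5, 6, 0, 2, 3, 4, 5, 1, 3, 4, 2, 3, 0, 2, 1, 3,
  4, 5, 4, 2, 3, 0, 2, 1, 3, 2], 6), ([2, 4, 6], [3, 4, 5, 6, 0, 2, 3, 4, 5, 1, 3, 4, 2, 3, 0, 2, 1, 3, 4, 5, 4, 2,
  3, 0, 2, 1, 3, 0], 3), ([0, 2, 0, 4, 6], [], 0), ([1, 2, 4, 6], [3, 4, 5, 6, 0, 2, 3, 4, 5, 1, 3, 4, 2, 3, 0, 2,
  1, 3, 4, 5, 4, 2, 3, 0, 2, 1, 3, 0], 6), ([0, 1, 2, 0, 4, 6], [], 0), ([3, 4, 3, 6], [], 0), ([0, 3, 4, 3, 6],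
  [], 0), ([1, 3, 1, 4, 3, 1, 6], [], 0), ([0, 1, 3, 1, 4, 3, 1, 6], [], 0), ([2, 3, 2, 4, 3, 2, 6], [], 0), ([0,
  2, 0, 3, 2, 0, 4, 3, 2, 0, 6], [], 0), ([1, 2, 3, 1, 2, 3, 4, 3, 1, 2, 3, 4, 6], [3, 4, 5, 6, 0, 2, 3, 4, 5, 1,
  3, 4, 2, 3, 0, 2, 1, 3, 4, 5, 1, 3, 2, 0], 7), ([0, 1, 2, 0, 3, 1, 2, 0, 3, 2, 4, 3, 1, 2, 0, 3, 2, 4, 3, 1, 6],
  [], 0), ([5, 6, 5], [], 0), ([0, 5, 6, 5], [], 0), ([1, 5, 6, 5], [], 0), ([0, 1, 5, 6, 5], [], 0), ([2, 5, 6,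
  5], [], 0), ([0, 2, 0, 5, 6, 5], [], 0), ([1, 2, 5, 6, 5], [], 0), ([0, 1, 2, 0, 5, 6, 5], [], 0), ([3, 5, 6, 5],
  [], 0), ([0, 3, 5, 6, 5], [], 0), ([1, 3, 1, 5, 6, 5], [], 0), ([0, 1, 3, 1, 5, 6, 5], [], 0), ([2, 3, 2, 5, 6,
  5], [], 0), ([0, 2, 0, 3, 2, 0, 5, 6, 5], [], 0), ([1, 2, 3, 1, 2, 3, 5, 6, 5], [], 0), ([0, 1, 2, 0, 3, 1, 2, 0,
  3, 2, 5, 6, 5], [], 0), ([4, 5, 4, 6, 5, 4], [], 0), ([0, 4, 5, 4, 6, 5, 4], [], 0), ([1, 4, 5, 4, 6, 5, 4], [],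
  0), ([0, 1, 4, 5, 4, 6, 5, 4], [], 0), ([2, 4, 5, 4, 6, 5, 4], [], 0), ([0, 2, 0, 4, 5, 4, 6, 5, 4], [], 0), ([1,
  2, 4, 5, 4, 6, 5, 4], [], 0), ([0, 1, 2, 0, 4, 5, 4, 6, 5, 4], [], 0), ([3, 4, 3, 5, 4, 3, 6, 5, 4, 3], [], 0),
  ([0, 3, 4, 3, 5, 4, 3, 6, 5, 4, 3], [], 0), ([1, 3, 1, 4, 3, 1, 5, 4, 3, 1, 6, 5, 4, 3, 1], [], 0), ([0, 1, 3, 1,
  4, 3, 1, 5, 4, 3, 1, 6, 5, 4, 3, 1], [], 0), ([2, 3, 2, 4, 3, 2, 5, 4, 3, 2, 6, 5, 4, 3, 2], [], 0), ([0, 2, 0,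
  3, 2, 0, 4, 3, 2, 0, 5, 4, 3, 2, 0, 6, 5, 4, 3, 2, 0], [], 0), ([1, 2, 3, 1, 2, 3, 4, 3, 1, 2, 3, 4, 5, 4, 3, 1,
  2, 3, 4, 5, 6, 5, 4, 3, 1, 2, 3, 4, 5, 6], [5, 4, 3, 2, 1, 3, 4, 5, 0, 2, 3, 4, 1, 3, 2, 0], 8), ([0, 1, 2, 0, 3,
  1, 2, 0, 3, 2, 4, 3, 1, 2, 0, 3, 2, 4, 3, 1, 5, 4, 3, 1, 2, 0, 3, 2, 4, 3, 1, 5, 4, 3, 2, 0, 6, 5, 4, 3, 1, 2, 0,
  3, 2, 4, 3, 1, 5, 4, 3, 2, 0, 6, 5, 4, 3, 1, 2, 3, 4, 5, 6], [], 9)]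

theorem weylE7 : weylChk chevE7.rank chevE7.nroots tSE7 tTE7 (rtTab chevE7.nroots) id id
    (125 - ·) (ksE7.map Prod.fst)
    [0, 1, 2, 0, 3, 1, 2, 0, 3, 2, 4, 3, 1, 2, 0, 3, 2, 4, 3, 1, 5, 4, 3, 1, 2, 0, 3, 2, 4, 3, 1, 5, 4, 3, 2, 0, 6,
    5, 4, 3, 1, 2, 0, 3, 2, 4, 3, 1, 5, 4, 3, 2, 0, 6, 5, 4, 3, 1, 2, 3, 4, 5, 6] jsE7 = true := by decide +kernel

theorem chkE7 : ksE7.all (kChk fastE7 tSE7 (fun _ => true)) = true := by decide +kernel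

theorem rkE7 : [[63], [78, 73], [78, 66, 63], [78, 73, 66], [78, 73, 66, 63]].map (rk fastE7) = [34, 52, 53, 62, 63] := by decide +kernel

theorem classesE7 (F : Type*) [Field F] [Fintype F] [CharP F 2] :
    (∀ y ∈ [[63], [78, 73], [78, 66, 63], [78, 73, 66], [78, 73, 66, 63]], wd chevE7 F y ∈ chevE7.group F ∧ orderOf (wd chevE7 F y) = 2) ∧
    ∀ t ∈ chevE7.group F, orderOf t = 2 → ∃ g ∈ chevE7.group F, ∃ y ∈ [[63], [78, 73], [78, 66, 63], [78, 73, 66], [78, 73, 66, 63]],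
      g * t * g⁻¹ = wd chevE7 F y :=
  exists_conj_rep rtOKE7 tablesOKE7 (isTw_group rtOKE7) (fun _ => rfl) (fun _ _ => Fin.ext_iff)
    matchE7.ofD_eq rfl (fun l _ => wd_mem_group l) weylE7 chkE7 (by simp [ksE7]; tauto)
    (by rw [rkE7]; decide)

end CfsgLib.ChevInv
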