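import Mathlib
import Cfsg.Agent.Lib.ChevInv.Cert
import Cfsg.Agent.Lib.ChevAut.Par
import Cfsg.Agent.Lib.Chev.Cert

/-!
# Involutions of `E₈` in characteristic two
-/

set_option autoImplicit false

namespace CfsgLib.ChevInv

open Cfsg.Lie CfsgLib.Chev CfsgLib.RGD CfsgLib.Twist CfsgLib.Weyl CfsgLib.Stein CfsgLib.ChevAut

/-- certificate: classes of the Weyl group -/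
def ksE8 : List (List ℕ × List ℕ × List ℕ) :=
  [([7, 6, 5, 4, 3, 2, 1, 3, 4, 5, 6, 0, 2, 3, 4, 5, 1, 3, 4, 2, 3, 0, 2, 1, 3, 4, 5, 6, 7, 6, 5, 4, 3, 2, 1, 3, 4,
  5, 6, 0, 2, 3, 4, 5, 1, 3, 4, 2, 3, 0, 2, 1, 3, 4, 5, 6, 7, 6, 5, 4, 3, 2, 1, 3, 4, 5, 6, 0, 2, 3, 4, 5, 1, 3, 4,
  2, 3, 0, 2, 1, 3, 4, 5, 6, 0, 2, 3, 4, 5, 1, 3, 4, 2, 3, 0, 2, 1, 3, 4, 5, 1, 3, 4, 2, 3, 0, 2, 1, 3, 4, 2, 3, 0,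
  2, 1, 3, 0, 2, 1, 0], [0, 13, 80, 87, 98, 104, 113, 118, 122, 79, 12, 119, 129, 84, 10, 114, 140, 93, 8, 105,
  173, 43, 36, 71, 120, 119, 120, 122, 117, 122, 134, 105, 134, 139, 100, 139, 146, 93, 146, 183, 56, 183], [226,
  220, 213, 216]), ([6, 5, 4, 3, 2, 1, 3, 4, 5, 6, 0, 2, 3, 4, 5, 1, 3, 4, 2, 3, 0, 2, 1, 3, 4, 5, 6, 0, 2, 3, 4,
  5, 1, 3, 4, 2, 3, 0, 2, 1, 3, 4, 5, 1, 3, 4, 2, 3, 0, 2, 1, 3, 4, 2, 3, 0, 2, 1, 3, 0, 2, 1, 0], [13, 80, 87, 98,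
  104, 113, 118, 163, 65, 58, 77, 165, 70, 42, 75, 167, 68, 45, 73, 121, 118, 121, 133, 106, 133, 144, 95, 144,
  150, 89, 150, 152, 87, 152, 225, 14, 225], [226, 220, 213, 216]), ([6, 5, 4, 3, 2, 1, 3, 4, 5, 6, 5, 4, 3, 2, 1,
  3, 4, 5, 4, 3, 2, 1, 3, 4, 3, 2, 1, 3, 2, 1], [80, 87, 98, 104, 113, 118, 124, 112, 86, 116, 131, 103, 97, 109,
  120, 119, 120, 121, 118, 121, 133, 106, 133, 143, 96, 143, 151, 88, 151, 177, 62, 177, 186, 53, 186, 234, 5,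
  234], [226, 220, 213, 216]), ([6, 4, 3, 2, 1, 3, 4, 3, 2, 1, 3, 2, 1], [87, 98, 104, 113, 118, 131, 103, 97, 109,
  120, 119, 120, 123, 116, 123, 130, 109, 130, 137, 102, 137, 142, 97, 142, 164, 75, 164, 179, 60, 179, 208, 31,
  208], [226, 220, 213, 216]), ([4, 3, 2, 1, 3, 4, 3, 2, 1, 3, 2, 1], [87, 98, 104, 113, 131, 103, 97, 109, 120,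
  119, 120, 121, 118, 121, 132, 107, 132, 136, 103, 136, 146, 93, 146, 157, 82, 157, 193, 46, 193, 216, 23, 216],
  [228, 222, 218]), ([7, 4, 2, 1], [98, 104, 113, 119, 124, 115, 124, 131, 108, 131, 143, 96, 143, 178, 61, 178,
  205, 34, 205, 208, 31, 208], [226, 220, 213, 216]), ([7, 4, 1], [98, 113, 119, 120, 119, 120, 122, 117, 122, 123,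
  116, 123, 126, 113, 126, 144, 95, 144, 150, 89, 150, 167, 72, 167, 238, 1, 238], [228, 222, 218]), ([2, 1], [98,
  104, 120, 119, 120, 122, 117, 122, 125, 114, 125, 129, 110, 129, 134, 105, 134, 135, 104, 135, 141, 98, 141, 226,
  13, 226], [232, 233]), ([7], [119, 120, 119, 120, 160, 79, 160, 180, 59, 180, 187, 52, 187], [239]), ([], [],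
  [])]

/-- certificate: sets of nodes -/
def jsE8 : List (List ℕ × List ℕ × ℕ) :=
  [([], [], 0), ([0], [7, 6, 5, 4, 3, 2, 1, 3, 4, 5, 6, 7, 0, 2, 3, 4, 5, 6, 1, 3, 4, 5, 2, 3, 4, 1, 3, 2], 1),
  ([1], [7, 6, 5, 4, 3, 2, 1, 3, 4, 5, 6, 7, 0, 2, 3, 4, 5, 6, 1, 3, 4, 5, 2, 3, 4, 0, 2, 3], 1), ([0, 1], [7, 6,
  0, 2, 3, 4, 5, 1, 3, 4, 2, 3, 0, 2, 1, 3, 4, 5, 6, 7, 5, 4, 3, 0, 2, 1, 3, 4, 5, 6, 0, 2, 1, 3, 4, 5, 2, 1, 3, 4,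
  2, 1, 3, 2], 2), ([2], [7, 6, 5, 4, 3, 2, 1, 3, 4, 5, 6, 7, 0, 2, 3, 4, 5, 6, 1, 3, 4, 5, 2, 3, 4, 1, 3, 0], 1),
  ([0, 2, 0], [], 0), ([1, 2], [7, 6, 0, 2, 3, 4, 5, 1, 3, 4, 2, 3, 0, 2, 1, 3, 4, 5, 6, 7, 5, 4, 3, 0, 2, 1, 3, 4,
  5, 6, 0, 2, 1, 3, 4, 5, 2, 1, 3, 4, 2, 1, 3, 0], 2), ([0, 1, 2, 0], [], 0), ([3], [7, 6, 5, 4, 3, 2, 1, 3, 4, 5,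
  6, 7, 0, 2, 3, 4, 5, 6, 1, 3, 4, 5, 2, 3, 4, 0, 2, 1], 1), ([0, 3], [7, 6, 0, 2, 3, 4, 5, 1, 3, 4, 2, 3, 0, 2, 1,
  3, 4, 5, 6, 7, 5, 4, 3, 0, 2, 1, 3, 4, 5, 6, 0, 2, 1, 3, 4, 5, 2, 1, 3, 4, 3, 0, 2, 1], 2), ([1, 3, 1], [], 0),
  ([0, 1, 3, 1], [], 0), ([2, 3, 2], [], 0), ([0, 2, 0, 3, 2, 0], [], 0), ([1, 2, 3, 1, 2, 3], [], 0), ([0, 1, 2,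
  0, 3, 1, 2, 0, 3, 2], [], 0), ([4], [7, 6, 5, 4, 3, 2, 1, 3, 4, 5, 6, 7, 0, 2, 3, 4, 5, 6, 1, 3, 4, 5, 2, 3, 0,
  2, 1, 3], 1), ([0, 4], [7, 6, 0, 2, 3, 4, 5, 1, 3, 4, 2, 3, 0, 2, 1, 3, 4, 5, 6, 7, 5, 4, 3, 0, 2, 1, 3, 4, 5, 6,
  0, 2, 1, 3, 4, 5, 4, 2, 3, 0, 2, 1, 3, 2], 2), ([1, 4], [7, 6, 0, 2, 3, 4, 5, 1, 3, 4, 2, 3, 0, 2, 1, 3, 4, 5, 6,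
  7, 5, 4, 3, 0, 2, 1, 3, 4, 5, 6, 5, 4, 3, 2, 1, 3, 4, 5, 2, 3, 0, 2, 1, 3], 2), ([0, 1, 4], [5, 6, 7, 4, 5, 6, 0,
  2, 3, 4, 5, 1, 3, 4, 2, 3, 0, 2, 1, 3, 4, 5, 6, 7, 5, 3, 4, 2, 3, 0, 2, 1, 3, 4, 5, 6, 4, 3, 0, 2, 1, 3, 4, 5, 4,
  2, 3, 0, 2, 1, 3, 2], 3), ([2, 4], [7, 6, 0, 2, 3, 4, 5, 1, 3, 4, 2, 3, 0, 2, 1, 3, 4, 5, 6, 7, 5, 4, 3, 0, 2, 1,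
  3, 4, 5, 6, 0, 2, 1, 3, 4, 5, 4, 2, 3, 0, 2, 1, 3, 0], 2), ([0, 2, 0, 4], [], 0), ([1, 2, 4], [5, 6, 7, 4, 5, 6,
  0, 2, 3, 4, 5, 1, 3, 4, 2, 3, 0, 2, 1, 3, 4, 5, 6, 7, 5, 3, 4, 2, 3, 0, 2, 1, 3, 4, 5, 6, 4, 3, 0, 2, 1, 3, 4, 5,
  4, 2, 3, 0, 2, 1, 3, 0], 3), ([0, 1, 2, 0, 4], [], 0), ([3, 4, 3], [], 0), ([0, 3, 4, 3], [], 0), ([1, 3, 1, 4,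
  3, 1], [], 0), ([0, 1, 3, 1, 4, 3, 1], [], 0), ([2, 3, 2, 4, 3, 2], [], 0), ([0, 2, 0, 3, 2, 0, 4, 3, 2, 0], [],
  0), ([1, 2, 3, 1, 2, 3, 4, 3, 1, 2, 3, 4], [5, 6, 7, 4, 5, 6, 0, 2, 3, 4, 5, 1, 3, 4, 2, 3, 0, 2, 1, 3, 4, 5, 6,
  7, 5, 3, 4, 2, 3, 0, 2, 1, 3, 4, 5, 6, 2, 3, 0, 2, 1, 3, 4, 5, 1, 3, 2, 0], 4), ([0, 1, 2, 0, 3, 1, 2, 0, 3, 2,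
  4, 3, 1, 2, 0, 3, 2, 4, 3, 1], [], 0), ([5], [7, 6, 5, 4, 3, 2, 1, 3, 4, 5, 6, 7, 0, 2, 3, 4, 5, 6, 1, 3, 4, 2,
  3, 0, 2, 1, 3, 4], 1), ([0, 5], [7, 6, 0, 2, 3, 4, 5, 1, 3, 4, 2, 3, 0, 2, 1, 3, 4, 5, 6, 7, 5, 4, 3, 0, 2, 1, 3,
  4, 5, 6, 5, 1, 3, 4, 2, 3, 0, 2, 1, 3, 4, 1, 3, 2], 2), ([1, 5], [7, 6, 0, 2, 3, 4, 5, 1, 3, 4, 2, 3, 0, 2, 1, 3,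
  4, 5, 6, 7, 5, 4, 3, 0, 2, 1, 3, 4, 5, 6, 5, 1, 3, 4, 2, 3, 0, 2, 1, 3, 4, 0, 2, 3], 2), ([0, 1, 5], [5, 6, 7, 4,
  5, 6, 0, 2, 3, 4, 5, 1, 3, 4, 2, 3, 0, 2, 1, 3, 4, 5, 6, 7, 5, 3, 4, 2, 3, 0, 2, 1, 3, 4, 5, 6, 4, 5, 1, 3, 4, 2,
  3, 0, 2, 1, 3, 4, 2, 1, 3, 2], 3), ([2, 5], [7, 6, 0, 2, 3, 4, 5, 1, 3, 4, 2, 3, 0, 2, 1, 3, 4, 5, 6, 7, 5, 4, 3,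
  0, 2, 1, 3, 4, 5, 6, 5, 1, 3, 4, 2, 3, 0, 2, 1, 3, 4, 1, 3, 0], 2), ([0, 2, 0, 5], [], 0), ([1, 2, 5], [5, 6, 7,
  4, 5, 6, 0, 2, 3, 4, 5, 1, 3, 4, 2, 3, 0, 2, 1, 3, 4, 5, 6, 7, 5, 3, 4, 2, 3, 0, 2, 1, 3, 4, 5, 6, 4, 5, 1, 3, 4,
  2, 3, 0, 2, 1, 3, 4, 2, 1, 3, 0], 3), ([0, 1, 2, 0, 5], [], 0), ([3, 5], [7, 6, 0, 2, 3, 4, 5, 1, 3, 4, 2, 3, 0,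
  2, 1, 3, 4, 5, 6, 7, 5, 4, 3, 0, 2, 1, 3, 4, 5, 6, 5, 1, 3, 4, 2, 3, 0, 2, 1, 3, 4, 0, 2, 1], 2), ([0, 3, 5], [5,
  6, 7, 4, 5, 6, 0, 2, 3, 4, 5, 1, 3, 4, 2, 3, 0, 2, 1, 3, 4, 5, 6, 7, 5, 3, 4, 2, 3, 0, 2, 1, 3, 4, 5, 6, 4, 5, 1,
  3, 4, 2, 3, 0, 2, 1, 3, 4, 3, 0, 2, 1], 3), ([1, 3, 1, 5], [], 0), ([0, 1, 3, 1, 5], [], 0), ([2, 3, 2, 5], [],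
  0), ([0, 2, 0, 3, 2, 0, 5], [], 0), ([1, 2, 3, 1, 2, 3, 5], [], 0), ([0, 1, 2, 0, 3, 1, 2, 0, 3, 2, 5], [], 0),
  ([4, 5, 4], [], 0), ([0, 4, 5, 4], [], 0), ([1, 4, 5, 4], [], 0), ([0, 1, 4, 5, 4], [], 0), ([2, 4, 5, 4], [],
  0), ([0, 2, 0, 4, 5, 4], [], 0), ([1, 2, 4, 5, 4], [], 0), ([0, 1, 2, 0, 4, 5, 4], [], 0), ([3, 4, 3, 5, 4, 3],
  [], 0), ([0, 3, 4, 3, 5, 4, 3], [], 0), ([1, 3, 1, 4, 3, 1, 5, 4, 3, 1], [], 0), ([0, 1, 3, 1, 4, 3, 1, 5, 4, 3,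
  1], [], 0), ([2, 3, 2, 4, 3, 2, 5, 4, 3, 2], [], 0), ([0, 2, 0, 3, 2, 0, 4, 3, 2, 0, 5, 4, 3, 2, 0], [], 0), ([1,
  2, 3, 1, 2, 3, 4, 3, 1, 2, 3, 4, 5, 4, 3, 1, 2, 3, 4, 5], [], 0), ([0, 1, 2, 0, 3, 1, 2, 0, 3, 2, 4, 3, 1, 2, 0,
  3, 2, 4, 3, 1, 5, 4, 3, 1, 2, 0, 3, 2, 4, 3, 1, 5, 4, 3, 2, 0], [], 0), ([6], [7, 6, 5, 4, 3, 2, 1, 3, 4, 5, 6,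
  7, 0, 2, 3, 4, 5, 1, 3, 4, 2, 3, 0, 2, 1, 3, 4, 5], 1), ([0, 6], [7, 6, 0, 2, 3, 4, 5, 1, 3, 4, 2, 3, 0, 2, 1, 3,
  4, 5, 6, 7, 5, 6, 0, 2, 3, 4, 5, 1, 3, 4, 2, 3, 0, 2, 1, 3, 4, 5, 2, 3, 4, 1, 3, 2], 2), ([1, 6], [7, 6, 0, 2, 3,
  4, 5, 1, 3, 4, 2, 3, 0, 2, 1, 3, 4, 5, 6, 7, 5, 6, 0, 2, 3, 4, 5, 1, 3, 4, 2, 3, 0, 2, 1, 3, 4, 5, 2, 3, 4, 0, 2,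
  3], 2), ([0, 1, 6], [5, 6, 7, 4, 5, 6, 0, 2, 3, 4, 5, 1, 3, 4, 2, 3, 0, 2, 1, 3, 4, 5, 6, 7, 3, 4, 5, 6, 0, 2, 3,
  4, 5, 1, 3, 4, 2, 3, 0, 2, 1, 3, 4, 5, 2, 1, 3, 4, 2, 1, 3, 2], 3), ([2, 6], [7, 6, 0, 2, 3, 4, 5, 1, 3, 4, 2, 3,
  0, 2, 1, 3, 4, 5, 6, 7, 5, 6, 0, 2, 3, 4, 5, 1, 3, 4, 2, 3, 0, 2, 1, 3, 4, 5, 2, 3, 4, 1, 3, 0], 2), ([0, 2, 0,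
  6], [], 0), ([1, 2, 6], [5, 6, 7, 4, 5, 6, 0, 2, 3, 4, 5, 1, 3, 4, 2, 3, 0, 2, 1, 3, 4, 5, 6, 7, 3, 4, 5, 6, 0,
  2, 3, 4, 5, 1, 3, 4, 2, 3, 0, 2, 1, 3, 4, 5, 2, 1, 3, 4, 2, 1, 3, 0], 3), ([0, 1, 2, 0, 6], [], 0), ([3, 6], [7,
  6, 0, 2, 3, 4, 5, 1, 3, 4, 2, 3, 0, 2, 1, 3, 4, 5, 6, 7, 5, 6, 0, 2, 3, 4, 5, 1, 3, 4, 2, 3, 0, 2, 1, 3, 4, 5, 2,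
  3, 4, 0, 2, 1], 2), ([0, 3, 6], [5, 6, 7, 4, 5, 6, 0, 2, 3, 4, 5, 1, 3, 4, 2, 3, 0, 2, 1, 3, 4, 5, 6, 7, 3, 4, 5,
  6, 0, 2, 3, 4, 5, 1, 3, 4, 2, 3, 0, 2, 1, 3, 4, 5, 2, 1, 3, 4, 3, 0, 2, 1], 3), ([1, 3, 1, 6], [], 0), ([0, 1, 3,
  1, 6], [], 0), ([2, 3, 2, 6], [], 0), ([0, 2, 0, 3, 2, 0, 6], [], 0), ([1, 2, 3, 1, 2, 3, 6], [], 0), ([0, 1, 2,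
  0, 3, 1, 2, 0, 3, 2, 6], [], 0), ([4, 6], [7, 6, 0, 2, 3, 4, 5, 1, 3, 4, 2, 3, 0, 2, 1, 3, 4, 5, 6, 7, 5, 6, 0,
  2, 3, 4, 5, 1, 3, 4, 2, 3, 0, 2, 1, 3, 4, 5, 2, 3, 0, 2, 1, 3], 2), ([0, 4, 6], [5, 6, 7, 4, 5, 6, 0, 2, 3, 4, 5,
  1, 3, 4, 2, 3, 0, 2, 1, 3, 4, 5, 6, 7, 3, 4, 5, 6, 0, 2, 3, 4, 5, 1, 3, 4, 2, 3, 0, 2, 1, 3, 4, 5, 4, 2, 3, 0, 2,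
  1, 3, 2], 3), ([1, 4, 6], [7, 5, 4, 3, 2, 1, 3, 4, 5, 6, 0, 2, 3, 4, 5, 1, 3, 4, 2, 3, 0, 2, 1, 3, 4, 5, 6, 7, 5,
  6, 0, 2, 3, 4, 5, 1, 3, 4, 2, 3, 0, 2, 1, 3, 4, 5, 2, 3, 0, 2, 1, 3], 3), ([0, 1, 4, 6], [6, 5, 4, 3, 2, 1, 3, 4,
  5, 6, 0, 2, 3, 4, 5, 1, 3, 4, 2, 3, 0, 2, 1, 3, 4, 5, 6, 7, 3, 4, 5, 6, 0, 2, 3, 4, 5, 1, 3, 4, 2, 3, 0, 2, 1, 3,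
  4, 5, 4, 2, 3, 0, 2, 1, 3, 2], 5), ([2, 4, 6], [5, 6, 7, 4, 5, 6, 0, 2, 3, 4, 5, 1, 3, 4, 2, 3, 0, 2, 1, 3, 4, 5,
  6, 7, 3, 4, 5, 6, 0, 2, 3, 4, 5, 1, 3, 4, 2, 3, 0, 2, 1, 3, 4, 5, 4, 2, 3, 0, 2, 1, 3, 0], 3), ([0, 2, 0, 4, 6],
  [], 0), ([1, 2, 4, 6], [6, 5, 4, 3, 2, 1, 3, 4, 5, 6, 0, 2, 3, 4, 5, 1, 3, 4, 2, 3, 0, 2, 1, 3, 4, 5, 6, 7, 3, 4,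
  5, 6, 0, 2, 3, 4, 5, 1, 3, 4, 2, 3, 0, 2, 1, 3, 4, 5, 4, 2, 3, 0, 2, 1, 3, 0], 5), ([0, 1, 2, 0, 4, 6], [], 0),
  ([3, 4, 3, 6], [], 0), ([0, 3, 4, 3, 6], [], 0), ([1, 3, 1, 4, 3, 1, 6], [], 0), ([0, 1, 3, 1, 4, 3, 1, 6], [],
  0), ([2, 3, 2, 4, 3, 2, 6], [], 0), ([0, 2, 0, 3, 2, 0, 4, 3, 2, 0, 6], [], 0), ([1, 2, 3, 1, 2, 3, 4, 3, 1, 2,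
  3, 4, 6], [6, 5, 4, 3, 2, 1, 3, 4, 5, 6, 0, 2, 3, 4, 5, 1, 3, 4, 2, 3, 0, 2, 1, 3, 4, 5, 6, 7, 3, 4, 5, 6, 0, 2,
  3, 4, 5, 1, 3, 4, 2, 3, 0, 2, 1, 3, 4, 5, 1, 3, 2, 0], 6), ([0, 1, 2, 0, 3, 1, 2, 0, 3, 2, 4, 3, 1, 2, 0, 3, 2,
  4, 3, 1, 6], [], 0), ([5, 6, 5], [], 0), ([0, 5, 6, 5], [], 0), ([1, 5, 6, 5], [], 0), ([0, 1, 5, 6, 5], [], 0),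
  ([2, 5, 6, 5], [], 0), ([0, 2, 0, 5, 6, 5], [], 0), ([1, 2, 5, 6, 5], [], 0), ([0, 1, 2, 0, 5, 6, 5], [], 0),
  ([3, 5, 6, 5], [], 0), ([0, 3, 5, 6, 5], [], 0), ([1, 3, 1, 5, 6, 5], [], 0), ([0, 1, 3, 1, 5, 6, 5], [], 0),
  ([2, 3, 2, 5, 6, 5], [], 0), ([0, 2, 0, 3, 2, 0, 5, 6, 5], [], 0), ([1, 2, 3, 1, 2, 3, 5, 6, 5], [], 0), ([0, 1,
  2, 0, 3, 1, 2, 0, 3, 2, 5, 6, 5], [], 0), ([4, 5, 4, 6, 5, 4], [], 0), ([0, 4, 5, 4, 6, 5, 4], [], 0), ([1, 4, 5,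
  4, 6, 5, 4], [], 0), ([0, 1, 4, 5, 4, 6, 5, 4], [], 0), ([2, 4, 5, 4, 6, 5, 4], [], 0), ([0, 2, 0, 4, 5, 4, 6, 5,
  4], [], 0), ([1, 2, 4, 5, 4, 6, 5, 4], [], 0), ([0, 1, 2, 0, 4, 5, 4, 6, 5, 4], [], 0), ([3, 4, 3, 5, 4, 3, 6, 5,
  4, 3], [], 0), ([0, 3, 4, 3, 5, 4, 3, 6, 5, 4, 3], [], 0), ([1, 3, 1, 4, 3, 1, 5, 4, 3, 1, 6, 5, 4, 3, 1], [],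
  0), ([0, 1, 3, 1, 4, 3, 1, 5, 4, 3, 1, 6, 5, 4, 3, 1], [], 0), ([2, 3, 2, 4, 3, 2, 5, 4, 3, 2, 6, 5, 4, 3, 2],
  [], 0), ([0, 2, 0, 3, 2, 0, 4, 3, 2, 0, 5, 4, 3, 2, 0, 6, 5, 4, 3, 2, 0], [], 0), ([1, 2, 3, 1, 2, 3, 4, 3, 1, 2,
  3, 4, 5, 4, 3, 1, 2, 3, 4, 5, 6, 5, 4, 3, 1, 2, 3, 4, 5, 6], [3, 4, 5, 6, 7, 1, 3, 4, 5, 6, 0, 2, 3, 4, 5, 1, 3,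
  4, 2, 3, 0, 2, 1, 3, 4, 5, 6, 7, 5, 4, 3, 2, 1, 3, 4, 5, 0, 2, 3, 4, 1, 3, 2, 0], 7), ([0, 1, 2, 0, 3, 1, 2, 0,
  3, 2, 4, 3, 1, 2, 0, 3, 2, 4, 3, 1, 5, 4, 3, 1, 2, 0, 3, 2, 4, 3, 1, 5, 4, 3, 2, 0, 6, 5, 4, 3, 1, 2, 0, 3, 2, 4,
  3, 1, 5, 4, 3, 2, 0, 6, 5, 4, 3, 1, 2, 3, 4, 5, 6], [6, 5, 4, 3, 2, 1, 3, 4, 5, 6, 0, 2, 3, 4, 5, 1, 3, 4, 2, 3,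
  0, 2, 1, 3, 4, 5, 6, 7], 8), ([7], [7, 6, 5, 4, 3, 2, 1, 3, 4, 5, 6, 0, 2, 3, 4, 5, 1, 3, 4, 2, 3, 0, 2, 1, 3, 4,
  5, 6], 1), ([0, 7], [0, 2, 3, 4, 5, 6, 7, 6, 5, 4, 3, 2, 1, 3, 4, 5, 6, 0, 2, 3, 4, 5, 1, 3, 4, 2, 3, 0, 2, 1, 3,
  4, 5, 6, 1, 3, 4, 5, 2, 3, 4, 1, 3, 2], 2), ([1, 7], [0, 2, 3, 4, 5, 6, 7, 6, 5, 4, 3, 2, 1, 3, 4, 5, 6, 0, 2, 3,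
  4, 5, 1, 3, 4, 2, 3, 0, 2, 1, 3, 4, 5, 6, 1, 3, 4, 5, 2, 3, 4, 0, 2, 3], 2), ([0, 1, 7], [5, 4, 3, 0, 2, 1, 3, 4,
  5, 6, 7, 6, 5, 4, 3, 2, 1, 3, 4, 5, 6, 0, 2, 3, 4, 5, 1, 3, 4, 2, 3, 0, 2, 1, 3, 4, 5, 6, 0, 2, 1, 3, 4, 5, 2, 1,
  3, 4, 2, 1, 3, 2], 3), ([2, 7], [0, 2, 3, 4, 5, 6, 7, 6, 5, 4, 3, 2, 1, 3, 4, 5, 6, 0, 2, 3, 4, 5, 1, 3, 4, 2, 3,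
  0, 2, 1, 3, 4, 5, 6, 1, 3, 4, 5, 2, 3, 4, 1, 3, 0], 2), ([0, 2, 0, 7], [], 0), ([1, 2, 7], [5, 4, 3, 0, 2, 1, 3,
  4, 5, 6, 7, 6, 5, 4, 3, 2, 1, 3, 4, 5, 6, 0, 2, 3, 4, 5, 1, 3, 4, 2, 3, 0, 2, 1, 3, 4, 5, 6, 0, 2, 1, 3, 4, 5, 2,
  1, 3, 4, 2, 1, 3, 0], 3), ([0, 1, 2, 0, 7], [], 0), ([3, 7], [0, 2, 3, 4, 5, 6, 7, 6, 5, 4, 3, 2, 1, 3, 4, 5, 6,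
  0, 2, 3, 4, 5, 1, 3, 4, 2, 3, 0, 2, 1, 3, 4, 5, 6, 1, 3, 4, 5, 2, 3, 4, 0, 2, 1], 2), ([0, 3, 7], [5, 4, 3, 0, 2,
  1, 3, 4, 5, 6, 7, 6, 5, 4, 3, 2, 1, 3, 4, 5, 6, 0, 2, 3, 4, 5, 1, 3, 4, 2, 3, 0, 2, 1, 3, 4, 5, 6, 0, 2, 1, 3, 4,
  5, 2, 1, 3, 4, 3, 0, 2, 1], 3), ([1, 3, 1, 7], [], 0), ([0, 1, 3, 1, 7], [], 0), ([2, 3, 2, 7], [], 0), ([0, 2,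
  0, 3, 2, 0, 7], [], 0), ([1, 2, 3, 1, 2, 3, 7], [], 0), ([0, 1, 2, 0, 3, 1, 2, 0, 3, 2, 7], [], 0), ([4, 7], [0,
  2, 3, 4, 5, 6, 7, 6, 5, 4, 3, 2, 1, 3, 4, 5, 6, 0, 2, 3, 4, 5, 1, 3, 4, 2, 3, 0, 2, 1, 3, 4, 5, 6, 1, 3, 4, 5, 2,
  3, 0, 2, 1, 3], 2), ([0, 4, 7], [5, 4, 3, 0, 2, 1, 3, 4, 5, 6, 7, 6, 5, 4, 3, 2, 1, 3, 4, 5, 6, 0, 2, 3, 4, 5, 1,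
  3, 4, 2, 3, 0, 2, 1, 3, 4, 5, 6, 0, 2, 1, 3, 4, 5, 4, 2, 3, 0, 2, 1, 3, 2], 3), ([1, 4, 7], [5, 4, 3, 0, 2, 1, 3,
  4, 5, 6, 7, 6, 5, 4, 3, 2, 1, 3, 4, 5, 6, 0, 2, 3, 4, 5, 1, 3, 4, 2, 3, 0, 2, 1, 3, 4, 5, 6, 5, 4, 3, 2, 1, 3, 4,
  5, 2, 3, 0, 2, 1, 3], 3), ([0, 1, 4, 7], [6, 5, 3, 4, 2, 3, 0, 2, 1, 3, 4, 5, 6, 7, 5, 4, 3, 2, 1, 3, 4, 5, 6, 0,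
  2, 3, 4, 5, 1, 3, 4, 2, 3, 0, 2, 1, 3, 4, 5, 6, 4, 3, 0, 2, 1, 3, 4, 5, 4, 2, 3, 0, 2, 1, 3, 2], 5), ([2, 4, 7],
  [5, 4, 3, 0, 2, 1, 3, 4, 5, 6, 7, 6, 5, 4, 3, 2, 1, 3, 4, 5, 6, 0, 2, 3, 4, 5, 1, 3, 4, 2, 3, 0, 2, 1, 3, 4, 5,
  6, 0, 2, 1, 3, 4, 5, 4, 2, 3, 0, 2, 1, 3, 0], 3), ([0, 2, 0, 4, 7], [], 0), ([1, 2, 4, 7], [6, 5, 3, 4, 2, 3, 0,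
  2, 1, 3, 4, 5, 6, 7, 5, 4, 3, 2, 1, 3, 4, 5, 6, 0, 2, 3, 4, 5, 1, 3, 4, 2, 3, 0, 2, 1, 3, 4, 5, 6, 4, 3, 0, 2, 1,
  3, 4, 5, 4, 2, 3, 0, 2, 1, 3, 0], 5), ([0, 1, 2, 0, 4, 7], [], 0), ([3, 4, 3, 7], [], 0), ([0, 3, 4, 3, 7], [],
  0), ([1, 3, 1, 4, 3, 1, 7], [], 0), ([0, 1, 3, 1, 4, 3, 1, 7], [], 0), ([2, 3, 2, 4, 3, 2, 7], [], 0), ([0, 2, 0,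
  3, 2, 0, 4, 3, 2, 0, 7], [], 0), ([1, 2, 3, 1, 2, 3, 4, 3, 1, 2, 3, 4, 7], [6, 5, 3, 4, 2, 3, 0, 2, 1, 3, 4, 5,
  6, 7, 5, 4, 3, 2, 1, 3, 4, 5, 6, 0, 2, 3, 4, 5, 1, 3, 4, 2, 3, 0, 2, 1, 3, 4, 5, 6, 2, 3, 0, 2, 1, 3, 4, 5, 1, 3,
  2, 0], 6), ([0, 1, 2, 0, 3, 1, 2, 0, 3, 2, 4, 3, 1, 2, 0, 3, 2, 4, 3, 1, 7], [], 0), ([5, 7], [0, 2, 3, 4, 5, 6,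
  7, 6, 5, 4, 3, 2, 1, 3, 4, 5, 6, 0, 2, 3, 4, 5, 1, 3, 4, 2, 3, 0, 2, 1, 3, 4, 5, 6, 1, 3, 4, 2, 3, 0, 2, 1, 3,
  4], 2), ([0, 5, 7], [5, 4, 3, 0, 2, 1, 3, 4, 5, 6, 7, 6, 5, 4, 3, 2, 1, 3, 4, 5, 6, 0, 2, 3, 4, 5, 1, 3, 4, 2, 3,
  0, 2, 1, 3, 4, 5, 6, 5, 1, 3, 4, 2, 3, 0, 2, 1, 3, 4, 1, 3, 2], 3), ([1, 5, 7], [5, 4, 3, 0, 2, 1, 3, 4, 5, 6, 7,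
  6, 5, 4, 3, 2, 1, 3, 4, 5, 6, 0, 2, 3, 4, 5, 1, 3, 4, 2, 3, 0, 2, 1, 3, 4, 5, 6, 5, 1, 3, 4, 2, 3, 0, 2, 1, 3, 4,
  0, 2, 3], 3), ([0, 1, 5, 7], [6, 5, 3, 4, 2, 3, 0, 2, 1, 3, 4, 5, 6, 7, 5, 4, 3, 2, 1, 3, 4, 5, 6, 0, 2, 3, 4, 5,
  1, 3, 4, 2, 3, 0, 2, 1, 3, 4, 5, 6, 4, 5, 1, 3, 4, 2, 3, 0, 2, 1, 3, 4, 2, 1, 3, 2], 5), ([2, 5, 7], [5, 4, 3, 0,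
  2, 1, 3, 4, 5, 6, 7, 6, 5, 4, 3, 2, 1, 3, 4, 5, 6, 0, 2, 3, 4, 5, 1, 3, 4, 2, 3, 0, 2, 1, 3, 4, 5, 6, 5, 1, 3, 4,
  2, 3, 0, 2, 1, 3, 4, 1, 3, 0], 3), ([0, 2, 0, 5, 7], [], 0), ([1, 2, 5, 7], [6, 5, 3, 4, 2, 3, 0, 2, 1, 3, 4, 5,
  6, 7, 5, 4, 3, 2, 1, 3, 4, 5, 6, 0, 2, 3, 4, 5, 1, 3, 4, 2, 3, 0, 2, 1, 3, 4, 5, 6, 4, 5, 1, 3, 4, 2, 3, 0, 2, 1,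
  3, 4, 2, 1, 3, 0], 5), ([0, 1, 2, 0, 5, 7], [], 0), ([3, 5, 7], [5, 4, 3, 0, 2, 1, 3, 4, 5, 6, 7, 6, 5, 4, 3, 2,
  1, 3, 4, 5, 6, 0, 2, 3, 4, 5, 1, 3, 4, 2, 3, 0, 2, 1, 3, 4, 5, 6, 5, 1, 3, 4, 2, 3, 0, 2, 1, 3, 4, 0, 2, 1], 3),
  ([0, 3, 5, 7], [6, 5, 3, 4, 2, 3, 0, 2, 1, 3, 4, 5, 6, 7, 5, 4, 3, 2, 1, 3, 4, 5, 6, 0, 2, 3, 4, 5, 1, 3, 4, 2,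
  3, 0, 2, 1, 3, 4, 5, 6, 4, 5, 1, 3, 4, 2, 3, 0, 2, 1, 3, 4, 3, 0, 2, 1], 5), ([1, 3, 1, 5, 7], [], 0), ([0, 1, 3,
  1, 5, 7], [], 0), ([2, 3, 2, 5, 7], [], 0), ([0, 2, 0, 3, 2, 0, 5, 7], [], 0), ([1, 2, 3, 1, 2, 3, 5, 7], [], 0),
  ([0, 1, 2, 0, 3, 1, 2, 0, 3, 2, 5, 7], [], 0), ([4, 5, 4, 7], [], 0), ([0, 4, 5, 4, 7], [], 0), ([1, 4, 5, 4, 7],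
  [], 0), ([0, 1, 4, 5, 4, 7], [], 0), ([2, 4, 5, 4, 7], [], 0), ([0, 2, 0, 4, 5, 4, 7], [], 0), ([1, 2, 4, 5, 4,
  7], [], 0), ([0, 1, 2, 0, 4, 5, 4, 7], [], 0), ([3, 4, 3, 5, 4, 3, 7], [], 0), ([0, 3, 4, 3, 5, 4, 3, 7], [], 0),
  ([1, 3, 1, 4, 3, 1, 5, 4, 3, 1, 7], [], 0), ([0, 1, 3, 1, 4, 3, 1, 5, 4, 3, 1, 7], [], 0), ([2, 3, 2, 4, 3, 2, 5,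
  4, 3, 2, 7], [], 0), ([0, 2, 0, 3, 2, 0, 4, 3, 2, 0, 5, 4, 3, 2, 0, 7], [], 0), ([1, 2, 3, 1, 2, 3, 4, 3, 1, 2,
  3, 4, 5, 4, 3, 1, 2, 3, 4, 5, 7], [], 0), ([0, 1, 2, 0, 3, 1, 2, 0, 3, 2, 4, 3, 1, 2, 0, 3, 2, 4, 3, 1, 5, 4, 3,
  1, 2, 0, 3, 2, 4, 3, 1, 5, 4, 3, 2, 0, 7], [], 0), ([6, 7, 6], [], 0), ([0, 6, 7, 6], [], 0), ([1, 6, 7, 6], [],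
  0), ([0, 1, 6, 7, 6], [], 0), ([2, 6, 7, 6], [], 0), ([0, 2, 0, 6, 7, 6], [], 0), ([1, 2, 6, 7, 6], [], 0), ([0,
  1, 2, 0, 6, 7, 6], [], 0), ([3, 6, 7, 6], [], 0), ([0, 3, 6, 7, 6], [], 0), ([1, 3, 1, 6, 7, 6], [], 0), ([0, 1,
  3, 1, 6, 7, 6], [], 0), ([2, 3, 2, 6, 7, 6], [], 0), ([0, 2, 0, 3, 2, 0, 6, 7, 6], [], 0), ([1, 2, 3, 1, 2, 3, 6,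
  7, 6], [], 0), ([0, 1, 2, 0, 3, 1, 2, 0, 3, 2, 6, 7, 6], [], 0), ([4, 6, 7, 6], [], 0), ([0, 4, 6, 7, 6], [], 0),
  ([1, 4, 6, 7, 6], [], 0), ([0, 1, 4, 6, 7, 6], [], 0), ([2, 4, 6, 7, 6], [], 0), ([0, 2, 0, 4, 6, 7, 6], [], 0),
  ([1, 2, 4, 6, 7, 6], [], 0), ([0, 1, 2, 0, 4, 6, 7, 6], [], 0), ([3, 4, 3, 6, 7, 6], [], 0), ([0, 3, 4, 3, 6, 7,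
  6], [], 0), ([1, 3, 1, 4, 3, 1, 6, 7, 6], [], 0), ([0, 1, 3, 1, 4, 3, 1, 6, 7, 6], [], 0), ([2, 3, 2, 4, 3, 2, 6,
  7, 6], [], 0), ([0, 2, 0, 3, 2, 0, 4, 3, 2, 0, 6, 7, 6], [], 0), ([1, 2, 3, 1, 2, 3, 4, 3, 1, 2, 3, 4, 6, 7, 6],
  [], 0), ([0, 1, 2, 0, 3, 1, 2, 0, 3, 2, 4, 3, 1, 2, 0, 3, 2, 4, 3, 1, 6, 7, 6], [], 0), ([5, 6, 5, 7, 6, 5], [],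
  0), ([0, 5, 6, 5, 7, 6, 5], [], 0), ([1, 5, 6, 5, 7, 6, 5], [], 0), ([0, 1, 5, 6, 5, 7, 6, 5], [], 0), ([2, 5, 6,
  5, 7, 6, 5], [], 0), ([0, 2, 0, 5, 6, 5, 7, 6, 5], [], 0), ([1, 2, 5, 6, 5, 7, 6, 5], [], 0), ([0, 1, 2, 0, 5, 6,
  5, 7, 6, 5], [], 0), ([3, 5, 6, 5, 7, 6, 5], [], 0), ([0, 3, 5, 6, 5, 7, 6, 5], [], 0), ([1, 3, 1, 5, 6, 5, 7, 6,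
  5], [], 0), ([0, 1, 3, 1, 5, 6, 5, 7, 6, 5], [], 0), ([2, 3, 2, 5, 6, 5, 7, 6, 5], [], 0), ([0, 2, 0, 3, 2, 0, 5,
  6, 5, 7, 6, 5], [], 0), ([1, 2, 3, 1, 2, 3, 5, 6, 5, 7, 6, 5], [], 0), ([0, 1, 2, 0, 3, 1, 2, 0, 3, 2, 5, 6, 5,
  7, 6, 5], [], 0), ([4, 5, 4, 6, 5, 4, 7, 6, 5, 4], [], 0), ([0, 4, 5, 4, 6, 5, 4, 7, 6, 5, 4], [], 0), ([1, 4, 5,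
  4, 6, 5, 4, 7, 6, 5, 4], [], 0), ([0, 1, 4, 5, 4, 6, 5, 4, 7, 6, 5, 4], [], 0), ([2, 4, 5, 4, 6, 5, 4, 7, 6, 5,
  4], [], 0), ([0, 2, 0, 4, 5, 4, 6, 5, 4, 7, 6, 5, 4], [], 0), ([1, 2, 4, 5, 4, 6, 5, 4, 7, 6, 5, 4], [], 0), ([0,
  1, 2, 0, 4, 5, 4, 6, 5, 4, 7, 6, 5, 4], [], 0), ([3, 4, 3, 5, 4, 3, 6, 5, 4, 3, 7, 6, 5, 4, 3], [], 0), ([0, 3,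
  4, 3, 5, 4, 3, 6, 5, 4, 3, 7, 6, 5, 4, 3], [], 0), ([1, 3, 1, 4, 3, 1, 5, 4, 3, 1, 6, 5, 4, 3, 1, 7, 6, 5, 4, 3,
  1], [], 0), ([0, 1, 3, 1, 4, 3, 1, 5, 4, 3, 1, 6, 5, 4, 3, 1, 7, 6, 5, 4, 3, 1], [], 0), ([2, 3, 2, 4, 3, 2, 5,
  4, 3, 2, 6, 5, 4, 3, 2, 7, 6, 5, 4, 3, 2], [], 0), ([0, 2, 0, 3, 2, 0, 4, 3, 2, 0, 5, 4, 3, 2, 0, 6, 5, 4, 3, 2,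
  0, 7, 6, 5, 4, 3, 2, 0], [], 0), ([1, 2, 3, 1, 2, 3, 4, 3, 1, 2, 3, 4, 5, 4, 3, 1, 2, 3, 4, 5, 6, 5, 4, 3, 1, 2,
  3, 4, 5, 6, 7, 6, 5, 4, 3, 1, 2, 3, 4, 5, 6, 7], [], 0), ([0, 1, 2, 0, 3, 1, 2, 0, 3, 2, 4, 3, 1, 2, 0, 3, 2, 4,
  3, 1, 5, 4, 3, 1, 2, 0, 3, 2, 4, 3, 1, 5, 4, 3, 2, 0, 6, 5, 4, 3, 1, 2, 0, 3, 2, 4, 3, 1, 5, 4, 3, 2, 0, 6, 5, 4,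
  3, 1, 2, 3, 4, 5, 6, 7, 6, 5, 4, 3, 1, 2, 0, 3, 2, 4, 3, 1, 5, 4, 3, 2, 0, 6, 5, 4, 3, 1, 2, 3, 4, 5, 6, 7, 6, 5,
  4, 3, 1, 2, 0, 3, 2, 4, 3, 1, 5, 4, 3, 2, 0, 6, 5, 4, 3, 1, 2, 3, 4, 5, 6, 7], [], 9)]

theorem weylE8 : weylChk chevE8.rank chevE8.nroots tSE8 tTE8 (rtTab chevE8.nroots) id id
    (239 - ·) (ksE8.map Prod.fst)
    [0, 1, 2, 0, 3, 1, 2, 0, 3, 2, 4, 3, 1, 2, 0, 3, 2, 4, 3, 1, 5, 4, 3, 1, 2, 0, 3, 2, 4, 3, 1, 5, 4, 3, 2, 0, 6,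
    5, 4, 3, 1, 2, 0, 3, 2, 4, 3, 1, 5, 4, 3, 2, 0, 6, 5, 4, 3, 1, 2, 3, 4, 5, 6, 7, 6, 5, 4, 3, 1, 2, 0, 3, 2, 4,
    3, 1, 5, 4, 3, 2, 0, 6, 5, 4, 3, 1, 2, 3, 4, 5, 6, 7, 6, 5, 4, 3, 1, 2, 0, 3, 2, 4, 3, 1, 5, 4, 3, 2, 0, 6, 5,
    4, 3, 1, 2, 3, 4, 5, 6, 7] jsE8 = true := by decide +kernel

theorem chkE8a : (ksE8.take 1).all (kChk fastE8 tSE8 (fun _ => true)) = true := by decide +kernel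

theorem chkE8b : (ksE8.drop 1).all (kChk fastE8 tSE8 (fun _ => true)) = true := by decide +kernel

theorem chkE8 : ksE8.all (kChk fastE8 tSE8 (fun _ => true)) = true := by
  rw [← List.take_append_drop 1 ksE8, List.all_append, chkE8a, chkE8b]; rfl

theorem rkE8 : [[239], [232, 233], [228, 222, 218], [226, 220, 213, 216]].map (rk fastE8) = [58, 92, 110, 120] := by decide +kernel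

theorem classesE8 (F : Type*) [Field F] [Fintype F] [CharP F 2] :
    (∀ y ∈ [[239], [232, 233], [228, 222, 218], [226, 220, 213, 216]], wd chevE8 F y ∈ chevE8.group F ∧ orderOf (wd chevE8 F y) = 2) ∧
    ∀ t ∈ chevE8.group F, orderOf t = 2 → ∃ g ∈ chevE8.group F, ∃ y ∈ [[239], [232, 233], [228, 222, 218], [226, 220, 213, 216]],
      g * t * g⁻¹ = wd chevE8 F y :=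
  exists_conj_rep rtOKE8 tablesOKE8 (isTw_group rtOKE8) (fun _ => rfl) (fun _ _ => Fin.ext_iff)
    matchE8.ofD_eq rfl (fun l _ => wd_mem_group l) weylE8 chkE8 (by simp [ksE8]; tauto)
    (by rw [rkE8]; decide)

end CfsgLib.ChevInv
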